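import Cfsg.Agent.MatR.R

/-! The two models of the involution centraliser. -/

set_option autoImplicit false
set_option maxRecDepth 100000
set_option maxHeartbeats 0
set_option synthInstance.maxSize 4000
set_option Elab.async false

namespace CF.MatR

open Subgroup CF.Comp CF.Cod CF.Loc Function
open CF.HS (gw env ROK hom_w lift_gw)

noncomputable def ι2 : El TS →* El T2 := pS.lift (f := gw) (by decide +kernel)
noncomputable def ι3 : El TS →* El T3 := pS.lift (f := gw) (by decide +kernel)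

theorem ok2 : ROK T2 RH2 6 := by decide +kernel
theorem ok3 : ROK T3 RH3 7 := by decide +kernel

theorem odd_of {K : Type*} [Group K] {ι : El TS →* K} (i : Injective ι) {m : ℕ} (c : Nat.card K = m * 128)
    (o : ¬ 2 ∣ m) : ¬ 2 ∣ ι.range.index := by
  have := ι.range.index_mul_card
  rw [card_range_of i, El.card, c] at this
  rwa [Nat.eq_of_mul_eq_mul_right (by decide) this]

theorem inj2 : Injective ι2 := (injective_iff_map_eq_one _).2 (by decide +kernel)
theorem inj3 : Injective ι3 := (injective_iff_map_eq_one _).2 (by decide +kernel)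

theorem md2 : Md ι2 := ⟨inj2, by decide +kernel, odd_of inj2 (m := 3) El.card (by decide), by decide +kernel,
  by decide +kernel, by decide +kernel, by decide +kernel, by decide +kernel⟩

theorem md3 : Md ι3 := ⟨inj3, by decide +kernel, odd_of inj3 (m := 21) El.card (by decide), by decide +kernel,
  by decide +kernel, by decide +kernel, by decide +kernel, by decide +kernel⟩

/-- the matrices of the elements of the model are in the list -/
def St {K : Type*} [Group K] (e : ℕ → K) (L : List ℕ) : Prop := ∀ k, ∀ y < 16, k * e 4 * k⁻¹ = e y →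
  ∀ w < 16, k * e 8 * k⁻¹ = e w → ∀ x < 16, k * e 2 * k⁻¹ = e x → mk4 1 x y w ∈ L

def LE2 : List ℕ := [33649, 33825, 34385, 37713, 38001, 38433, 41793, 42337, 42785, 45921, 46369, 46913, 49761, 50225, 51025, 53841, 54369, 55089, 57969, 58673, 58945, 62017, 62833, 63025]
def LE3 : List ℕ := [9393, 9601, 9889, 10129, 10481, 10689, 10977, 11217, 11377, 11585, 11873, 12113, 13537, 13761, 14033, 14321, 14433, 14657, 14929, 15217, 15521, 15745, 16017, 16305, 17057, 17393, 18097, 18401, 18481, 18785, 19137, 19345, 19489, 19825, 20177, 20353, 21137, 21457, 22209, 22401, 22689, 23009, 23153, 23345, 23793, 23985, 24097, 24417, 25265, 25537, 25761, 26065, 26689, 26929, 27265, 27633, 27793, 28129, 28241, 28449, 29313, 29665, 29937, 30097, 30929, 31153, 31281, 31569, 31809, 32033, 32417, 32705, 33505, 33649, 33825, 34225, 34385, 34753, 35569, 35681, 35889, 36257, 36417, 36817, 37585, 37713, 38001, 38385, 38433, 38817, 39489, 39873, 40161, 40289, 40625,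 40753, 41713, 41793, 42193, 42337, 42641, 42785, 43233, 43345, 44161, 44337, 44737, 44913, 45761, 45921, 46209, 46369, 46817, 46913, 47217, 47569, 48209, 48625, 48689, 49041, 49761, 50097, 50225, 50657, 50817, 51025, 51233, 51697, 51857, 52033, 52849, 53153, 53841, 54161, 54369, 54689, 55025, 55089, 55473, 55665, 55841, 56289, 56961, 57153, 57969, 58241, 58561, 58673, 58945, 59313, 59473, 59809, 60113, 60193, 60513, 60817, 62017, 62369, 62609, 62833, 63025, 63441, 63681, 63777, 64097, 64385, 64689, 64849]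
def LF2 : List ℕ := [33825, 38433, 42785, 46369, 50225, 55089, 58673, 63025]
def LF3 : List ℕ := [18481, 19489, 23345, 24097, 26929, 28449, 31281, 32033, 33825, 35889, 38433, 40753, 42785, 44337, 46369, 48689, 50225, 51233, 55089, 55841, 58673, 60193, 63025, 63777]
def WE2 : List (List ℕ) := [[11, 5], [], [5, 12], [7, 9, 11], [7, 12], [5, 7], [7, 11, 5], [5, 7, 12], [7], [9, 11], [5], [12], [5, 11], [9], [12, 9], [5, 7, 11], [7, 12, 9], [7, 9], [11], [5, 9], [9, 12], [7, 11], [7, 9, 12], [9, 7]]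
def WE3 : List (List ℕ) := [[13, 11, 14], [5, 13, 11, 14], [11, 14, 11, 5], [7, 13, 11, 14], [14, 11, 14], [12, 14, 12], [5, 12, 14, 12], [5, 14, 11, 14], [11, 14], [7, 11, 14], [5, 11, 14], [5, 7, 11, 14], [12, 13, 11], [5, 12, 13, 11], [5, 7, 12, 13, 11], [7, 12, 13, 11], [9, 11, 14], [12, 14, 7], [5, 12, 14, 7], [11, 5, 14], [9, 14, 11, 14], [9, 12, 14, 12], [5, 9, 14, 11, 14], [12, 9, 14, 12], [13, 5, 11], [14, 11, 5], [13, 11, 13], [9, 13, 11, 13], [9, 14], [5, 11, 14, 7], [11, 14, 12], [13, 12, 9], [14], [7, 12, 14], [7, 14, 12], [13, 12, 13], [7, 13, 11], [5, 14, 11, 5], [9, 11, 13, 11], [11, 13, 11], [5, 13, 12, 9], [5, 11, 14, 12], [11, 14, 7], [5, 9, 14], [14, 7, 12], [5, 13, 12, 13], [5, 14], [5, 7, 12, 14], [13, 11], [5, 9, 13, 11], [7, 11, 13, 11], [5, 12, 13, 5, 11], [9, 12, 14], [9, 7, 14], [9, 14, 12], [14, 11, 13, 5], [12, 14, 7, 12], [5, 14, 12], [5, 12, 14], [14, 7], [5, 13, 11], [9, 13, 11], [12, 13, 5, 11], [7, 13, 11,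 13], [7, 11, 14, 12], [5, 9, 14, 12], [7, 9, 14], [12, 9, 14], [12, 14], [7, 14], [7, 13, 12, 13], [14, 12], [7, 14, 11], [11, 5], [], [5, 13, 12, 14], [5, 12], [14, 12, 13], [14, 11, 13], [9, 11, 13], [9, 13], [5, 7, 12, 13, 12], [9, 12, 13], [14, 12, 9], [5, 14, 11], [7, 9, 11], [7, 12], [12, 9, 14, 11], [5, 7], [11, 14, 11], [12, 13, 5], [5, 11, 13, 12], [5, 9, 13, 12], [5, 11, 13, 5], [12, 13, 12], [9, 7, 13], [14, 11], [7, 11, 5], [7, 14, 12, 13], [5, 7, 12], [5, 11, 14, 11], [7], [11, 13, 12], [5, 12, 13, 5], [5, 12, 13, 12], [7, 9, 13], [9, 13, 12], [11, 13, 5], [14, 7, 11], [9, 11], [13, 12, 14], [5], [5, 14, 12, 13], [12], [11, 5, 13], [5, 14, 11, 13], [12, 9, 13], [5, 14, 12, 9], [5, 9, 13], [7, 12, 13, 12], [5, 11], [13, 11, 5], [9], [12, 13, 11, 5], [9, 14, 12, 13], [12, 9], [13], [11, 13, 5, 12], [13, 5, 12], [12, 13], [11, 13], [9, 14, 11, 13], [5, 7, 11], [5, 9, 14, 11], [7, 12, 9], [5, 12, 14, 11], [9, 11, 14, 11], [7, 9],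 [5, 13, 12], [7, 12, 13], [7, 13], [5, 14, 12, 14], [11, 5, 13, 12], [7, 11, 13], [11], [5, 13, 11, 5], [9, 13, 12, 14], [5, 9], [9, 12], [7, 12, 14, 11], [5, 12, 13], [7, 13, 12], [7, 14, 12, 14], [5, 13], [5, 11, 13], [5, 9, 14, 11, 13], [7, 11], [9, 14, 11], [12, 14, 11], [7, 9, 12], [9, 7], [11, 5, 14, 11], [14, 12, 14], [13, 5], [5, 7, 12, 13], [13, 12], [9, 11, 13, 12], [5, 7, 11, 13]]
def WF2 : List (List ℕ) := [[], [1, 3], [3], [1], [9], [3, 9], [1, 9], [9, 3]]
def WF3 : List (List ℕ) := [[9, 13], [13], [1, 9, 13], [1, 13], [9, 3, 13], [13, 3], [3, 9, 13], [3, 13], [], [9, 14], [1, 3], [9, 3, 14], [3], [3, 9, 14], [1], [1, 9, 14], [9], [14], [3, 9], [3, 14], [1, 9], [1, 14], [9, 3], [14, 1]]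

theorem sE2 : St (fun v => ι2 (eE v)) LE2 := by unfold St; decide +kernel
theorem sF2 : St (fun v => ι2 (eF v)) LF2 := by unfold St; decide +kernel
theorem sE3 : St (fun v => ι3 (eE v)) LE3 := by unfold St; decide +kernel
theorem sF3 : St (fun v => ι3 (eF v)) LF3 := by unfold St; decide +kernel

theorem pE2 : ∀ a < 16, ∀ b < 16, ∀ d < 16, pin ME LE2 [[19, 5, 12, 20], [19, 5, 7, 20, 7, 19], [19, 5, 7, 20, 5, 7, 19]]
    (fun m _ => WE2.any fun w => mm (mw ME w) m == 7789) (mk4 a b d 1) = true := by decide +kernel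

theorem pE3 : ∀ a < 16, ∀ b < 16, ∀ d < 16, pin ME LE3 [[19, 5, 12, 20], [19, 9, 13, 20]]
    (fun m _ => WE3.any fun w => mm (mw ME w) m == 4740) (mk4 a b d 1) = true := by decide +kernel

theorem pF2 : ∀ a < 16, ∀ b < 16, ∀ d < 16, pin MF LF2 [[19, 9, 20], [19, 1, 20, 9, 19], [19, 1, 20, 1, 19]]
    (fun m _ => WF2.any fun w => mm (mw MF w) m == 8580 || mm (mm (mw MF w) m) 46369 == 33957) (mk4 a b 1 d) = true := by
  decide +kernel

theorem pF3 : ∀ a < 16, ∀ b < 16, ∀ d < 16, pin MF LF3 [[19, 15, 13, 20], [19, 1, 20, 1, 19], [19, 1, 20, 3, 19],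
    [19, 1, 20, 1, 3, 19]] (fun m _ => WF3.any fun w => mm (mw MF w) m == 8580) (mk4 a b 1 d) = true := by
  decide +kernel

theorem pZ3 : ∀ a < 16, ∀ b < 16, ∀ d < 16, pin MF LF3 [[19, 9, 20], [20, 14, 19], [19, 14, 20], [19, 13, 20],
    [19, 1, 13, 20], [19, 1, 19], [19, 3, 19], [19, 1, 13, 19], [20, 13, 19], [19, 19, 19], [20, 20], [19, 19],
    [19, 14, 19], [20, 9, 19], [19, 13, 19], [19, 1, 14, 19], [20, 9, 20], [20, 14, 20], [19, 1, 3, 19]]
    (fun m m' => [[19, 9, 20], [20, 14, 19], [19, 14, 20], [19, 13, 20],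
    [19, 1, 13, 20], [19, 1, 19], [19, 3, 19], [19, 1, 13, 19], [20, 13, 19], [19, 19, 19], [20, 20], [19, 19],
    [19, 14, 19], [20, 9, 19], [19, 13, 19], [19, 1, 14, 19], [20, 9, 20], [20, 14, 20], [19, 1, 3, 19]].any
      fun w => cl (mw (Mx MF m m') w) 16 == 1) (mk4 a b 1 d) = true := by
  decide +kernel

end CF.MatR
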