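import Cfsg.Agent.Cod.Gen
import Cfsg.Agent.Recog.Act
import Cfsg.Agent.MatR.E

set_option autoImplicit false
set_option maxRecDepth 1000000
set_option maxHeartbeats 0
set_option Elab.async false

namespace CF.MatR

open CF.Comp CF.Cod

theorem eS_all : Cov eS_F 4 6 0 := by
  have h := Cov.zero eS_F 4
  have h := h.blk (b := 4) eS_k0_0 rfl
  have h := h.next (y := 1) rfl rfl
  have h := h.blk (b := 4) eS_k1_0 rfl
  have h := h.next (y := 2) rfl rfl
  have h := h.blk (b := 4) eS_k2_0 rfl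
  have h := h.next (y := 3) rfl rfl
  have h := h.blk (b := 4) eS_k3_0 rfl
  have h := h.next (y := 4) rfl rfl
  have h := h.blk (b := 4) eS_k4_0 rfl
  have h := h.next (y := 5) rfl rfl
  have h := h.blk (b := 4) eS_k5_0 rfl
  have h := h.next (y := 6) rfl rfl
  exact h

theorem eS : Enum RS [] (gensW 5) 128 :=
  ⟨eS_cols, eS_ch, eS_L, eS_H, eS_pb.1, eS_e.get, [(nat_lit 0), (nat_lit 1), (nat_lit 3), (nat_lit 5), (nat_lit 7), (nat_lit 9)], (nat_lit 31), (nat_lit 5), eS_rots, eS_hcs,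
    (nat_lit 129), (nat_lit 6), (nat_lit 256), (nat_lit 128), (nat_lit 32768), (nat_lit 16383), (nat_lit 8), (nat_lit 255), (nat_lit 21), (nat_lit 2097151), (nat_lit 1), (nat_lit 4),
    fun _ _ => rfl, fun _ => rfl, fun _ _ => rfl, by decide +kernel, eS_all.1⟩

theorem eN_all : Cov eN_F 4 9 0 := by
  have h := Cov.zero eN_F 4
  have h := h.blk (b := 4) eN_k0_0 rfl
  have h := h.next (y := 1) rfl rfl
  have h := h.blk (b := 4) eN_k1_0 rfl
  have h := h.next (y := 2) rfl rfl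
  have h := h.blk (b := 4) eN_k2_0 rfl
  have h := h.next (y := 3) rfl rfl
  have h := h.blk (b := 4) eN_k3_0 rfl
  have h := h.next (y := 4) rfl rfl
  have h := h.blk (b := 4) eN_k4_0 rfl
  have h := h.next (y := 5) rfl rfl
  have h := h.blk (b := 4) eN_k5_0 rfl
  have h := h.next (y := 6) rfl rfl
  have h := h.blk (b := 4) eN_k6_0 rfl
  have h := h.next (y := 7) rfl rfl
  have h := h.blk (b := 4) eN_k7_0 rfl
  have h := h.next (y := 8) rfl rfl
  have h := h.blk (b := 4) eN_k8_0 rfl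
  have h := h.next (y := 9) rfl rfl
  exact h

theorem eN : Enum RF (gensW 5) (gensW 7) 15 :=
  ⟨eN_cols, eN_ch, eN_L, eN_H, eN_pb.1, eN_e.get, [(nat_lit 0), (nat_lit 1), (nat_lit 3), (nat_lit 5), (nat_lit 7), (nat_lit 9), (nat_lit 11), (nat_lit 12), (nat_lit 13)], (nat_lit 95), (nat_lit 7), eN_rots, eN_hcs,
    (nat_lit 16), (nat_lit 9), (nat_lit 16), (nat_lit 64), (nat_lit 1024), (nat_lit 1023), (nat_lit 8), (nat_lit 255), (nat_lit 14), (nat_lit 16383), (nat_lit 1), (nat_lit 4),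
    fun _ _ => rfl, fun _ => rfl, fun _ _ => rfl, by decide +kernel, eN_all.1⟩

theorem eH2_all : Cov eH2_F 4 8 0 := by
  have h := Cov.zero eH2_F 4
  have h := h.blk (b := 4) eH2_k0_0 rfl
  have h := h.next (y := 1) rfl rfl
  have h := h.blk (b := 4) eH2_k1_0 rfl
  have h := h.next (y := 2) rfl rfl
  have h := h.blk (b := 4) eH2_k2_0 rfl
  have h := h.next (y := 3) rfl rfl
  have h := h.blk (b := 4) eH2_k3_0 rfl
  have h := h.next (y := 4) rfl rfl
  have h := h.blk (b := 4) eH2_k4_0 rfl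
  have h := h.next (y := 5) rfl rfl
  have h := h.blk (b := 4) eH2_k5_0 rfl
  have h := h.next (y := 6) rfl rfl
  have h := h.blk (b := 4) eH2_k6_0 rfl
  have h := h.next (y := 7) rfl rfl
  have h := h.blk (b := 4) eH2_k7_0 rfl
  have h := h.next (y := 8) rfl rfl
  exact h

theorem eH2 : Enum RH2 (gensW 5) (gensW 6) 3 :=
  ⟨eH2_cols, eH2_ch, eH2_L, eH2_H, eH2_pb.1, eH2_e.get, [(nat_lit 0), (nat_lit 1), (nat_lit 3), (nat_lit 5), (nat_lit 7), (nat_lit 9), (nat_lit 11), (nat_lit 12)], (nat_lit 31), (nat_lit 6), eH2_rots, eH2_hcs,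
    (nat_lit 4), (nat_lit 8), (nat_lit 4), (nat_lit 16), (nat_lit 64), (nat_lit 255), (nat_lit 8), (nat_lit 255), (nat_lit 9), (nat_lit 511), (nat_lit 1), (nat_lit 4),
    fun _ _ => rfl, fun _ => rfl, fun _ _ => rfl, by decide +kernel, eH2_all.1⟩

theorem eH3_all : Cov eH3_F 4 10 0 := by
  have h := Cov.zero eH3_F 4
  have h := h.blk (b := 4) eH3_k0_0 rfl
  have h := h.next (y := 1) rfl rfl
  have h := h.blk (b := 4) eH3_k1_0 rfl
  have h := h.next (y := 2) rfl rfl
  have h := h.blk (b := 4) eH3_k2_0 rfl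
  have h := h.next (y := 3) rfl rfl
  have h := h.blk (b := 4) eH3_k3_0 rfl
  have h := h.next (y := 4) rfl rfl
  have h := h.blk (b := 4) eH3_k4_0 rfl
  have h := h.next (y := 5) rfl rfl
  have h := h.blk (b := 4) eH3_k5_0 rfl
  have h := h.next (y := 6) rfl rfl
  have h := h.blk (b := 4) eH3_k6_0 rfl
  have h := h.next (y := 7) rfl rfl
  have h := h.blk (b := 4) eH3_k7_0 rfl
  have h := h.next (y := 8) rfl rfl
  have h := h.blk (b := 4) eH3_k8_0 rfl
  have h := h.next (y := 9) rfl rfl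
  have h := h.blk (b := 4) eH3_k9_0 rfl
  have h := h.next (y := 10) rfl rfl
  exact h

theorem eH3 : Enum RH3 (gensW 6) (gensW 7) 7 :=
  ⟨eH3_cols, eH3_ch, eH3_L, eH3_H, eH3_pb.1, eH3_e.get, [(nat_lit 0), (nat_lit 1), (nat_lit 3), (nat_lit 5), (nat_lit 7), (nat_lit 9), (nat_lit 11), (nat_lit 12), (nat_lit 13), (nat_lit 14)], (nat_lit 31), (nat_lit 7), eH3_rots, eH3_hcs,
    (nat_lit 8), (nat_lit 10), (nat_lit 8), (nat_lit 64), (nat_lit 512), (nat_lit 511), (nat_lit 8), (nat_lit 255), (nat_lit 13), (nat_lit 8191), (nat_lit 1), (nat_lit 4),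
    fun _ _ => rfl, fun _ => rfl, fun _ _ => rfl, by decide +kernel, eH3_all.1⟩

theorem e22_all : Cov e22_F 52 11 0 := by
  have h := Cov.zero e22_F 52
  have h := h.blk (b := 52) e22_k0_0 rfl
  have h := h.next (y := 1) rfl rfl
  have h := h.blk (b := 52) e22_k1_0 rfl
  have h := h.next (y := 2) rfl rfl
  have h := h.blk (b := 52) e22_k2_0 rfl
  have h := h.next (y := 3) rfl rfl
  have h := h.blk (b := 52) e22_k3_0 rfl
  have h := h.next (y := 4) rfl rfl
  have h := h.blk (b := 52) e22_k4_0 rfl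
  have h := h.next (y := 5) rfl rfl
  have h := h.blk (b := 52) e22_k5_0 rfl
  have h := h.next (y := 6) rfl rfl
  have h := h.blk (b := 52) e22_k6_0 rfl
  have h := h.next (y := 7) rfl rfl
  have h := h.blk (b := 52) e22_k7_0 rfl
  have h := h.next (y := 8) rfl rfl
  have h := h.blk (b := 52) e22_k8_0 rfl
  have h := h.next (y := 9) rfl rfl
  have h := h.blk (b := 52) e22_k9_0 rfl
  have h := h.next (y := 10) rfl rfl
  have h := h.blk (b := 52) e22_k10_0 rfl
  have h := h.next (y := 11) rfl rfl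
  exact h

theorem e22 : Enum R22 (gensW 7) (gensW 8) 231 :=
  ⟨e22_cols, e22_ch, e22_L, e22_H, e22_pb.1, e22_e.get, [(nat_lit 0), (nat_lit 1), (nat_lit 3), (nat_lit 5), (nat_lit 7), (nat_lit 9), (nat_lit 11), (nat_lit 12), (nat_lit 13), (nat_lit 15), (nat_lit 16)], (nat_lit 95), (nat_lit 8), e22_rots, e22_hcs,
    (nat_lit 232), (nat_lit 11), (nat_lit 4096), (nat_lit 512), (nat_lit 2097152), (nat_lit 262143), (nat_lit 8), (nat_lit 255), (nat_lit 28), (nat_lit 268435455), (nat_lit 13), (nat_lit 52),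
    fun _ _ => rfl, fun _ => rfl, fun _ _ => rfl, by decide +kernel, e22_all.1⟩

theorem e23_all : Cov e23_F 12 13 0 := by
  have h := Cov.zero e23_F 12
  have h := h.blk (b := 12) e23_k0_0 rfl
  have h := h.next (y := 1) rfl rfl
  have h := h.blk (b := 12) e23_k1_0 rfl
  have h := h.next (y := 2) rfl rfl
  have h := h.blk (b := 12) e23_k2_0 rfl
  have h := h.next (y := 3) rfl rfl
  have h := h.blk (b := 12) e23_k3_0 rfl
  have h := h.next (y := 4) rfl rfl
  have h := h.blk (b := 12) e23_k4_0 rfl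
  have h := h.next (y := 5) rfl rfl
  have h := h.blk (b := 12) e23_k5_0 rfl
  have h := h.next (y := 6) rfl rfl
  have h := h.blk (b := 12) e23_k6_0 rfl
  have h := h.next (y := 7) rfl rfl
  have h := h.blk (b := 12) e23_k7_0 rfl
  have h := h.next (y := 8) rfl rfl
  have h := h.blk (b := 12) e23_k8_0 rfl
  have h := h.next (y := 9) rfl rfl
  have h := h.blk (b := 12) e23_k9_0 rfl
  have h := h.next (y := 10) rfl rfl
  have h := h.blk (b := 12) e23_k10_0 rfl
  have h := h.next (y := 11) rfl rfl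
  have h := h.blk (b := 12) e23_k11_0 rfl
  have h := h.next (y := 12) rfl rfl
  have h := h.blk (b := 12) e23_k12_0 rfl
  have h := h.next (y := 13) rfl rfl
  exact h

theorem e23 : Enum R23 (gensW 8) (gensW 9) 23 :=
  ⟨e23_cols, e23_ch, e23_L, e23_H, e23_pb.1, e23_e.get, [(nat_lit 0), (nat_lit 1), (nat_lit 3), (nat_lit 5), (nat_lit 7), (nat_lit 9), (nat_lit 11), (nat_lit 12), (nat_lit 13), (nat_lit 15), (nat_lit 16), (nat_lit 17), (nat_lit 18)], (nat_lit 95), (nat_lit 9), e23_rots, e23_hcs,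
    (nat_lit 24), (nat_lit 13), (nat_lit 1024), (nat_lit 512), (nat_lit 524288), (nat_lit 65535), (nat_lit 8), (nat_lit 255), (nat_lit 26), (nat_lit 67108863), (nat_lit 3), (nat_lit 12),
    fun _ _ => rfl, fun _ => rfl, fun _ _ => rfl, by decide +kernel, e23_all.1⟩

theorem bS {K : Type*} [Group K] {f : ℕ → K} (h : ∀ r ∈ RS, ev f r = 1) : Bound f (gensW 5) 128 :=
  eS.bound h (bound_nil _)

theorem bF {K : Type*} [Group K] {f : ℕ → K} (h : ∀ r ∈ RF, ev f r = 1) : Bound f (gensW 7) 1920 :=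
  eN.bound h (bS (rels_sub h (by decide +kernel)))

theorem bH2 {K : Type*} [Group K] {f : ℕ → K} (h : ∀ r ∈ RH2, ev f r = 1) : Bound f (gensW 6) 384 :=
  eH2.bound h (bS (rels_sub h (by decide +kernel)))

theorem bH3 {K : Type*} [Group K] {f : ℕ → K} (h : ∀ r ∈ RH3, ev f r = 1) : Bound f (gensW 7) 2688 :=
  eH3.bound h (bH2 (rels_sub h (by decide +kernel)))

theorem b22 {K : Type*} [Group K] {f : ℕ → K} (h : ∀ r ∈ R22, ev f r = 1) : Bound f (gensW 8) 443520 :=
  e22.bound h (bF (rels_sub h (by decide +kernel)))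

theorem b23 {K : Type*} [Group K] {f : ℕ → K} (h : ∀ r ∈ R23, ev f r = 1) : Bound f (gensW 9) 10200960 :=
  e23.bound h (b22 (rels_sub h (by decide +kernel)))

theorem pS : TS.Pres RS (gensW 5) :=
  ⟨CT.ok_spec TS_ok, lall_iff.1 TS_rel, by decide +kernel, by decide +kernel, by decide +kernel,
    bS (ug_rels _)⟩

instance gTS : TS.Grp := pS.grp

theorem p2 : T2.Pres RH2 (gensW 6) :=
  ⟨CT.ok_spec T2_ok, lall_iff.1 T2_rel, by decide +kernel, by decide +kernel, by decide +kernel,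
    bH2 (ug_rels _)⟩

instance gT2 : T2.Grp := p2.grp

theorem p3 : T3.Pres RH3 (gensW 7) :=
  ⟨CT.ok_spec T3_ok, lall_iff.1 T3_rel, by decide +kernel, by decide +kernel, by decide +kernel,
    bH3 (ug_rels _)⟩

instance gT3 : T3.Grp := p3.grp

theorem ch2 : ChainGe NG2 N21 24 5 8 S2 C2 443520 :=
  ⟨rfl, by decide, by decide, slp_of_slpOK (by decide +kernel), by decide +kernel, by decide +kernel,
    by decide +kernel⟩

theorem ch3 : ChainGe NG N31 24 5 9 S3 C3 10200960 :=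
  ⟨rfl, by decide, by decide, slp_of_slpOK (by decide +kernel), by decide +kernel, by decide +kernel,
    by decide +kernel⟩

end CF.MatR
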